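import Groth.Agent.UHTower.Colimit

/-!
# Algebras are filtered colimits of finitely presented algebras
-/

set_option autoImplicit false
set_option backward.isDefEq.respectTransparency.types false

universe u

open CategoryTheory MvPolynomial Groth.Agent.UHTower

namespace Groth.Agent.H2FP

variable (A B : Type u) [CommRing A] [CommRing B] [Algebra A B] (P : Finset B → Prop)

/-- The index set: finitely many variables and finitely many relations. -/
structure Idx where
  E : Finset B
  R : Finset (MvPolynomial B A)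
  ker : ∀ r ∈ R, aeval (id : B → B) r = 0
  pE : P E

instance : Preorder (Idx A B P) := Preorder.lift fun j ↦ (j.E, j.R)

/-- The diagram. -/
noncomputable def diagram : Idx A B P ⥤ Under (CommRingCat.of A) where
  obj j := Under.mk (CommRingCat.ofHom (algebraMap A (Quot j.E j.R)))
  map {i j} h := Under.homMk (CommRingCat.ofHom (UHTower.trans (leOfHom h).1 (leOfHom h).2).toRingHom)
    (CommRingCat.hom_ext (UHTower.trans (leOfHom h).1 (leOfHom h).2).comp_algebraMap)
  map_id j := by
    ext1
    refine CommRingCat.hom_ext ?_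
    exact congrArg AlgHom.toRingHom
      (quot_hom_ext (f := UHTower.trans (Finset.Subset.refl j.E) (Finset.Subset.refl j.R))
        (g := AlgHom.id A _) fun b ↦ by simp [trans_mk])
  map_comp {i j k} h h' := by
    ext1
    refine CommRingCat.hom_ext ?_
    exact congrArg AlgHom.toRingHom
      (quot_hom_ext (f := UHTower.trans (leOfHom (h ≫ h')).1 (leOfHom (h ≫ h')).2)
        (g := (UHTower.trans (leOfHom h').1 (leOfHom h').2).comp (UHTower.trans (leOfHom h).1 (leOfHom h).2))
        fun b ↦ by simp [trans_mk])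

/-- The cocone. -/
noncomputable def cocone : Limits.Cocone (diagram A B P) where
  pt := Under.mk (CommRingCat.ofHom (algebraMap A B))
  ι :=
    { app := fun j ↦ Under.homMk (CommRingCat.ofHom (toAmb j.E j.R j.ker).toRingHom)
        (CommRingCat.hom_ext (toAmb j.E j.R j.ker).comp_algebraMap)
      naturality := fun i j h ↦ by
        ext1
        refine CommRingCat.hom_ext ?_
        exact congrArg AlgHom.toRingHom
          (quot_hom_ext (f := (toAmb j.E j.R j.ker).comp (UHTower.trans (leOfHom h).1 (leOfHom h).2))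
            (g := toAmb i.E i.R i.ker) fun b ↦ by simp [trans_mk, toAmb_mk]) }

variable {A B P}

/-- Filtered colimit of finitely presented algebras. -/
theorem exists_colimit (hP : ∀ E E' : Finset B, P E → P E' → ∃ E'', P E'' ∧ E ⊆ E'' ∧ E' ⊆ E'')
    (hcov : ∀ b : B, ∃ E : Finset B, P E ∧ b ∈ Algebra.adjoin A (E : Set B)) :
    IsFiltered (Idx A B P) ∧ Nonempty (Limits.IsColimit (cocone A B P)) := by
  classical
  haveI : Nonempty (Idx A B P) := by
    obtain ⟨E, hE, -⟩ := hcov 0
    exact ⟨⟨E, ∅, by simp, hE⟩⟩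
  haveI : IsDirectedOrder (Idx A B P) := ⟨fun i j ↦ by
    obtain ⟨E, hE, hi, hj⟩ := hP i.E j.E i.pE j.pE
    refine ⟨⟨E, i.R ∪ j.R, fun r hr ↦ ?_, hE⟩, ⟨hi, Finset.subset_union_left⟩,
      ⟨hj, Finset.subset_union_right⟩⟩
    rcases Finset.mem_union.mp hr with h | h
    exacts [i.ker r h, j.ker r h]⟩
  haveI : IsFiltered (Idx A B P) := inferInstance
  refine ⟨this, ⟨?_⟩⟩
  haveI : IsConnected (Idx A B P) := IsFiltered.isConnected _
  haveI : Limits.ReflectsColimitsOfShape (Idx A B P) (forget CommRingCat.{u}) :=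
    Limits.reflectsColimitsOfShape_of_reflectsIsomorphisms
  apply Limits.isColimitOfReflects (Under.forget (CommRingCat.of A) ⋙ forget CommRingCat.{u})
  refine Limits.Types.FilteredColimit.isColimitOf' _ _ ?_ ?_
  · intro b
    obtain ⟨E, hE, hb⟩ := hcov b
    obtain ⟨f, hf, hf'⟩ := exists_poly hb
    rw [supported_eq_range_rename] at hf
    obtain ⟨f', rfl⟩ := hf
    refine ⟨⟨E, ∅, by simp, hE⟩, Ideal.Quotient.mk _ f', ?_⟩
    rw [← hf']
    exact aeval_rename (Subtype.val : {x // x ∈ E} → B) (id : B → B) f'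
  · intro j y z hyz
    obtain ⟨f, rfl⟩ := Ideal.Quotient.mk_surjective y
    obtain ⟨g, rfl⟩ := Ideal.Quotient.mk_surjective z
    have h0 : aeval (id : B → B) (rename Subtype.val (f - g)) = 0 := by
      rw [aeval_rename, map_sub, sub_eq_zero]
      exact hyz
    let R' := insert (rename Subtype.val (f - g)) j.R
    let k : Idx A B P := ⟨j.E, R', fun r hr ↦ by
        rcases Finset.mem_insert.mp hr with rfl | hr
        exacts [h0, j.ker r hr], j.pE⟩
    have hR' : j.R ⊆ k.R := fun r hr ↦ Finset.mem_insert_of_mem hr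
    refine ⟨k, homOfLE ⟨Finset.Subset.refl _, hR'⟩, ?_⟩
    show UHTower.trans (Finset.Subset.refl j.E) hR' (Ideal.Quotient.mk _ f) =
      UHTower.trans (Finset.Subset.refl j.E) hR' (Ideal.Quotient.mk _ g)
    rw [trans_mk, trans_mk, Ideal.Quotient.eq, ← map_sub]
    refine Ideal.subset_span (mem_rel.mpr ?_)
    rw [rename_rename]
    exact Finset.mem_insert_self _ _

theorem finitePresentation (j : Idx A B P) :
    ((diagram A B P).obj j).hom.hom.FinitePresentation := by
  show (algebraMap A (Quot j.E j.R)).FinitePresentation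
  rw [RingHom.finitePresentation_algebraMap]
  exact Algebra.FinitePresentation.quotient (Submodule.fg_span (Finset.finite_toSet _))

theorem surjective_map {i j : Idx A B P} (h : i ⟶ j) (hE : j.E ⊆ i.E) :
    Function.Surjective ((diagram A B P).map h).right.hom := by
  intro y
  obtain ⟨g, rfl⟩ := Ideal.Quotient.mk_surjective y
  obtain ⟨f, rfl⟩ := rename_surjective
    (fun b : {b // b ∈ i.E} ↦ (⟨b.1, (leOfHom h).1 b.2⟩ : {b // b ∈ j.E}))
    (fun b ↦ ⟨⟨b.1, hE b.2⟩, rfl⟩) g
  exact ⟨Ideal.Quotient.mk _ f, trans_mk (leOfHom h).1 (leOfHom h).2 f⟩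

end Groth.Agent.H2FP
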